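import Groth.Agent.AVPic.RelPicOfFppf
import Groth.Agent.AVPoinc.PhiFinite
import Groth.Agent.AVPoinc.StructureCoh
import Groth.Agent.RelPicGrp.Basic
import Groth.Agent.GrpSchLib.CharZeroPts
import Groth.Agent.GrpSchLib.FieldDim
import Groth.Agent.PicTangent.Main
import Groth.Agent.S11757

/-!
The Picard scheme of an abelian variety is smooth, of the dimension of the abelian variety.
-/

noncomputable section

set_option autoImplicit false
set_option linter.style.haveILetI false
set_option linter.unusedSectionVars false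
set_option backward.isDefEq.respectTransparency false
set_option backward.isDefEq.respectTransparency.types false
set_option maxHeartbeats 1000000
set_option synthInstance.maxHeartbeats 400000
attribute [-instance] CategoryTheory.catToReflQuiver

universe u

open CategoryTheory CategoryTheory.Limits MonoidalCategory CartesianMonoidalCategory MonObj AlgebraicGeometry TopologicalSpace

namespace Groth.Agent.AVPic

open Groth.Agent Groth.Agent.H23 Groth.Agent.H23.TrivBasic Groth.Agent.H23.CubeAb
open scoped Groth.Agent.H23.PicMul CategoryTheory.Obj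

section closed

variable {K : Type u} [Field K] [IsAlgClosed K]

/-- an etale covering of the point has a section -/
theorem exists_section_of_covers {J : Type u} {U : J → (Spec (CommRingCat.of K)).Etale} (hU : EtCoh.Covers U) :
    ∃ (i : J) (s : Spec (CommRingCat.of K) ⟶ (U i).left), s ≫ (U i).hom = 𝟙 _ := by
  obtain ⟨i, y, -⟩ := hU (IsLocalRing.closedPoint K)
  let v : (U i).left ⟶ Spec (CommRingCat.of K) := (U i).hom
  haveI : Etale v := (U i).prop
  haveI : JacobsonSpace (U i).left := LocallyOfFiniteType.jacobsonSpace v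
  obtain ⟨z, -, hz⟩ := nonempty_inter_closedPoints (Z := (Set.univ : Set (U i).left)) ⟨y, trivial⟩
    isClosed_univ.isLocallyClosed
  exact ⟨i, pointOfClosedPoint v z hz, pointOfClosedPoint_comp v z hz⟩

variable {X : Scheme.{u}} {f : X ⟶ Spec (CommRingCat.of K)} {P : Over (Spec (CommRingCat.of K))}
  {φ : ∀ T : Over (Spec (CommRingCat.of K)), PicF.Cl (PicF.XT f T) → (T ⟶ P)} (hP : PicRel.IsRelPic f P φ)

include hP in
/-- classes on the fibre are determined by their points -/
theorem eq_of_phi_eq {c c' : PicF.Cl (PicF.XT f (𝟙_ (Over (Spec (CommRingCat.of K)))))}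
    (hc : PicF.IsInvertibleCl c) (hc' : PicF.IsInvertibleCl c') (h : φ _ c = φ _ c') : c = c' := by
  let T : Over (Spec (CommRingCat.of K)) := 𝟙_ _
  obtain ⟨J, U, hU, he⟩ := hP.locallyInjective T c c' hc hc' h
  obtain ⟨i, s, hs⟩ := exists_section_of_covers hU
  let w : T ⟶ PicRel.ovr T (U i) := Over.homMk s (by
    show s ≫ (U i).hom ≫ T.hom = T.hom
    rw [← Category.assoc, hs, Category.id_comp])
  have h1 := congrArg (PicF.pullCl (PicF.XTmap f w)) (he i)
  rw [FppfPic.pullCl_XTmap_comp, FppfPic.pullCl_XTmap_comp,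
    show w ≫ PicRel.ovrHom T (U i) = 𝟙 T from Over.OverMorphism.ext hs,
    show PicF.XTmap f (𝟙 T) = 𝟙 _ from pullback.hom_ext (by simp [PicF.XTmap]) (by simp [PicF.XTmap])] at h1
  rwa [PicClLib.pullCl_id, PicClLib.pullCl_id] at h1

end closed

variable {K : Type u} [Field K] [IsAlgClosed K] (A : Over (Spec (CommRingCat.of K))) [GrpObj A] [IsProper A.hom]
  [GeometricallyIntegral A.hom] {P : Over (Spec (CommRingCat.of K))} [LocallyOfFiniteType P.hom]
  {φ : ∀ T : Over (Spec (CommRingCat.of K)), PicF.Cl (PicF.XT A.hom T) → (T ⟶ P)} (hP : PicRel.IsRelPic A.hom P φ)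

include hP in
/-- the Picard scheme is at least as big as the abelian variety -/
theorem dim_le : topologicalKrullDim A.left ≤ topologicalKrullDim P.left := by
  letI := RelPicGrp.grpObj hP
  haveI : IsSeparated P.hom := GrpSchLib.CharZeroPts.isSeparated_grp P
  obtain ⟨L, hL⟩ := AVProj.exists_isAmple (X := A)
  have hcW : PicF.IsInvertibleCl (PicF.cl L) := ⟨L, rfl, hL.1⟩
  obtain ⟨cW', hW', hWW'⟩ := RelPicGrp.exists_inv_cl hcW
  let cW := PicF.cl L
  let cΛ : PicF.Cl (PicF.XT A.hom A) :=
    PicF.pullCl μ[A].left cW * PicF.pullCl (fst A A).left cW' * PicF.pullCl (snd A A).left cW'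
  have hΛ : PicF.IsInvertibleCl cΛ := PicMul.isInvertibleCl_mul
    (PicMul.isInvertibleCl_mul (RelPicGrp.isInvertibleCl_pull _ hcW) (RelPicGrp.isInvertibleCl_pull _ hW'))
    (RelPicGrp.isInvertibleCl_pull _ hW')
  let T : Over (Spec (CommRingCat.of K)) := 𝟙_ _
  let l : A ⟶ A ⊗ T := lift (𝟙 A) (toUnit A)
  have hc : ∀ z : T ⟶ A, PicMul.pullHom l.left (PicF.pullCl (PicF.XTmap A.hom z) cΛ) = F cW (tr z) * cW' := by
    intro z
    show PicMul.pullHom l.left (PicMul.pullHom (A ◁ z).left (PicMul.pullHom μ[A].left cW *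
      PicMul.pullHom (fst A A).left cW' * PicMul.pullHom (snd A A).left cW')) = _
    simp only [map_mul]
    show PicF.pullCl l.left (PicF.pullCl (A ◁ z).left (PicF.pullCl μ[A].left cW)) *
      PicF.pullCl l.left (PicF.pullCl (A ◁ z).left (PicF.pullCl (fst A A).left cW')) *
      PicF.pullCl l.left (PicF.pullCl (A ◁ z).left (PicF.pullCl (snd A A).left cW')) = _
    rw [PicClLib.pullCl_comp, PicClLib.pullCl_comp, PicClLib.pullCl_comp, PicClLib.pullCl_comp, PicClLib.pullCl_comp,
      PicClLib.pullCl_comp]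
    simp only [← Over.comp_left, Category.assoc]
    rw [whiskerLeft_fst, whiskerLeft_snd,
      show l ≫ (A ◁ z) ≫ μ[A] = tr z by
        rw [← Category.assoc]
        show _ = lift (𝟙 A) (toUnit A ≫ z) ≫ μ[A]
        exact congrArg (· ≫ μ[A]) (CartesianMonoidalCategory.hom_ext _ _ (by simp [l]) (by simp [l])),
      show l ≫ fst A T = 𝟙 A by simp [l],
      show l ≫ snd A T ≫ z = toUnit A ≫ z by simp [l],
      Over.comp_left, ← PicClLib.pullCl_comp (toUnit A).left z.left, AbDualBase.pullCl_point z.left hW',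
      AbDualBase.pullCl_one', _root_.mul_one, Over.id_left, PicClLib.pullCl_id]
    rfl
  haveI : IsFinite (φ A cΛ).left := by
    have hfix := S12002.result K A L hL
    refine AVPoinc.isFinite_of_finite_points _ fun p => ?_
    refine (hfix.image (fun a => p * a)).subset fun q hq => ?_
    refine ⟨p⁻¹ * q, ?_, _root_.mul_inv_cancel_left p q⟩
    have h1 := eq_of_phi_eq hP (RelPicGrp.isInvertibleCl_pull (PicF.XTmap A.hom q) hΛ)
      (RelPicGrp.isInvertibleCl_pull (PicF.XTmap A.hom p) hΛ)
      (by rw [hP.natural _ _ q _ hΛ, hP.natural _ _ p _ hΛ]; exact hq)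
    have h2 := congrArg (PicMul.pullHom l.left) h1
    rw [hc, hc] at h2
    have h3 := congrArg (· * cW) h2
    simp only [_root_.mul_assoc, mul_comm cW' cW, show cW * cW' = 1 from hWW', _root_.mul_one] at h3
    have h4 := congrArg (PicMul.pullHom (tr p⁻¹).left) h3
    rw [pull_F, pull_F, AVVanish.tr_comp, AVVanish.tr_comp, inv_mul_cancel, AVVanish.F_tr_one] at h4
    exact PicMul.cl_eq_iff.1 h4
  exact AVPoinc.dim_le_of_isFinite (φ A cΛ).left

include hP in
/-- over an algebraically closed field -/
theorem smooth_and_dim {g : ℕ} (hg : topologicalKrullDim A.left = g) :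
    Smooth P.hom ∧ topologicalKrullDim P.left = g := by
  letI := RelPicGrp.grpObj hP
  letI : A.left.Over (Spec (CommRingCat.of K)) := ⟨A.hom⟩
  haveI : IsProper (A.left ↘ Spec (CommRingCat.of K)) := ‹IsProper A.hom›
  haveI : IsLocallyNoetherian P.left := LocallyOfFiniteType.isLocallyNoetherian P.hom
  have h1 : Module.finrank K (Coh.HH A.left (Coh.structureModule A.left) 1) = g := by
    rw [← g.choose_one_right]
    exact AVPoinc.finrank_HH_structure A hg 1
  let x : P.left := (φ (Over.mk (𝟙 (Spec (CommRingCat.of K)))) (PicF.cl (Coh.structureModule (PicF.XT A.hom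
    (Over.mk (𝟙 (Spec (CommRingCat.of K)))))))).left.base (IsLocalRing.closedPoint K)
  have hx : IsClosed ({x} : Set P.left) := by
    let o := φ (Over.mk (𝟙 (Spec (CommRingCat.of K)))) (PicF.cl (Coh.structureModule (PicF.XT A.hom
      (Over.mk (𝟙 (Spec (CommRingCat.of K)))))))
    haveI : JacobsonSpace P.left := LocallyOfFiniteType.jacobsonSpace P.hom
    exact ((pointEquivClosedPoint P.hom) ⟨o.left, Over.w o⟩).2
  have hdim := GrpSchLib.ringKrullDim_stalk_eq hx
  have hle : ringKrullDim (P.left.presheaf.stalk x) ≤ ((g : ℕ) : WithBot ℕ∞) := by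
    refine (ringKrullDim_le_spanFinrank_maximalIdeal _).trans_eq ?_
    rw [IsLocalRing.spanFinrank_maximalIdeal_eq_finrank_cotangentSpace, ← h1]
    exact congrArg _ (PicTangent.finrank_cotangent A.hom P φ hP rfl)
  have hge : ((g : ℕ) : WithBot ℕ∞) ≤ ringKrullDim (P.left.presheaf.stalk x) := by
    rw [hdim, ← hg]
    exact dim_le A hP
  refine ⟨(S11757.result K A.left P φ hP).2 ?_, hdim ▸ le_antisymm hle hge⟩
  rw [h1]
  exact le_antisymm hle hge

end Groth.Agent.AVPic

end
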