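import Groth.Agent.FppfPic.RelPic
import Groth.Prelude.Def_PicRel2

/-!
With a section and universally trivial direct image of the structure sheaf, a scheme representing the fppf
relative Picard sheaf represents the étale one.
-/

noncomputable section

set_option autoImplicit false
set_option linter.style.haveILetI false
set_option linter.unusedSectionVars false
set_option backward.isDefEq.respectTransparency false
set_option backward.isDefEq.respectTransparency.types false
set_option maxHeartbeats 1000000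
set_option synthInstance.maxHeartbeats 400000
attribute [-instance] CategoryTheory.catToReflQuiver

universe u

open CategoryTheory CategoryTheory.Limits AlgebraicGeometry TopologicalSpace Opposite
open Groth.Agent.H23.PicMul

namespace Groth.Agent.AVPic

open Groth.Agent

/-- an invertible class is trivial near every point -/
theorem exists_open_pullCl_eq_one {Y : Scheme.{u}} {n : PicF.Cl Y} (hn : PicF.IsInvertibleCl n) (y : Y) :
    ∃ V : Y.Opens, y ∈ V ∧ PicF.pullCl V.ι n = 1 := by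
  obtain ⟨N, rfl, hN⟩ := hn
  obtain ⟨V, hV, e, he⟩ := InvX.exists_frame hN y
  exact ⟨V, hV, (PicGrp.cl_eq_cl_iff _ _).2
    (H23.TrivBasic.triv_of_frame ((InvX.isFrame_pullElt V.ι he).res V.ι_preimage_self.ge))⟩

/-- two invertible classes are simultaneously trivial near every point -/
theorem exists_open_pullCl_eq_one_pair {Y : Scheme.{u}} {n m : PicF.Cl Y} (hn : PicF.IsInvertibleCl n)
    (hm : PicF.IsInvertibleCl m) (y : Y) :
    ∃ V : Y.Opens, y ∈ V ∧ PicF.pullCl V.ι n = 1 ∧ PicF.pullCl V.ι m = 1 := by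
  obtain ⟨V, hV, hV'⟩ := exists_open_pullCl_eq_one hn y
  obtain ⟨W, hW, hW'⟩ := exists_open_pullCl_eq_one hm y
  refine ⟨V ⊓ W, ⟨hV, hW⟩, ?_, ?_⟩
  · rw [← Y.homOfLE_ι (inf_le_left : V ⊓ W ≤ V), ← PicClLib.pullCl_comp, hV', pullCl_one]
  · rw [← Y.homOfLE_ι (inf_le_right : V ⊓ W ≤ W), ← PicClLib.pullCl_comp, hW', pullCl_one]

variable {X S : Scheme.{u}} (f : X ⟶ S) (σ : S ⟶ X) (hσ : σ ≫ f = 𝟙 S)
  (ha : ∀ (T : Over S) (U : T.left.Opens), IsIso ((PicF.XTproj f T).app U))
  {P : Over S} {φ : ∀ T : Over S, PicF.Cl (PicF.XT f T) → (T ⟶ P)}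
  (hP : AbDual.IsRelPicK Scheme.fppfPrecoverage f P φ)

include ha hP hσ in
theorem isRelPic_of_fppf : PicRel.IsRelPic f P φ := by
  refine ⟨hP.natural, fun T g => ?_, fun T c c' hc hc' h => ?_⟩
  · obtain ⟨c, hc⟩ := FppfPic.exists_rig f σ hσ ha hP T g
    let m : PicRel.ovr T (Scheme.Etale.mk (𝟙 T.left)) ⟶ T := PicRel.ovrHom T (Scheme.Etale.mk (𝟙 T.left))
    refine ⟨PUnit, fun _ => Scheme.Etale.mk (𝟙 T.left), fun x => ⟨⟨⟩, x, rfl⟩, fun _ => ⟨PicF.pullCl (PicF.XTmap f m) c.1,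
      FppfPic.isInvertibleCl_pull _ c.2.1, ?_⟩⟩
    rw [hP.natural _ _ m _ c.2.1, hc]
  · have hproj : ∀ (d : PicF.Cl T.left), PicF.pullCl (PicF.secT f σ hσ T) (PicF.pullCl (PicF.XTproj f T) d) = d := by
      intro d
      rw [PicClLib.pullCl_comp, show PicF.secT f σ hσ T ≫ PicF.XTproj f T = 𝟙 _ from pullback.lift_snd _ _ _,
        PicClLib.pullCl_id]
    obtain ⟨⟨m, hm⟩, hmn⟩ := exists_inv (⟨PicF.pullCl (PicF.secT f σ hσ T) c,
      FppfPic.isInvertibleCl_pull _ hc⟩ : PicLoc.PicSet T.left)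
    obtain ⟨⟨m', hm'⟩, hmn'⟩ := exists_inv (⟨PicF.pullCl (PicF.secT f σ hσ T) c',
      FppfPic.isInvertibleCl_pull _ hc'⟩ : PicLoc.PicSet T.left)
    change m * _ = 1 at hmn
    change m' * _ = 1 at hmn'
    have hC : c * PicF.pullCl (PicF.XTproj f T) m = c' * PicF.pullCl (PicF.XTproj f T) m' := by
      refine FppfPic.eq_of_φ_eq f σ hσ ha hP (isInvertibleCl_mul hc (FppfPic.isInvertibleCl_pull _ hm))
        (isInvertibleCl_mul hc' (FppfPic.isInvertibleCl_pull _ hm')) ?_ ?_ ?_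
      · rw [pullCl_mul, hproj, mul_comm]
        exact hmn
      · rw [pullCl_mul, hproj, mul_comm]
        exact hmn'
      · rw [FppfPic.φ_mul_base f hP hc hm, FppfPic.φ_mul_base f hP hc' hm', h]
    choose V hV hVm hVm' using exists_open_pullCl_eq_one_pair hm hm'
    refine ⟨T.left, fun t => Scheme.Etale.mk (V t).ι, fun t => ⟨t, ⟨t, hV t⟩, rfl⟩, fun t => ?_⟩
    let j := PicRel.ovrHom T (Scheme.Etale.mk (V t).ι)
    have hj : ∀ d : PicF.Cl T.left, PicF.pullCl (V t).ι d = 1 →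
        PicF.pullCl (PicF.XTmap f j) (PicF.pullCl (PicF.XTproj f T) d) = 1 := fun d hd => by
      rw [PicClLib.pullCl_comp, (FppfPic.isPullback_XTmap f j).w, ← PicClLib.pullCl_comp]
      show PicF.pullCl _ (PicF.pullCl (V t).ι d) = 1
      rw [hd, pullCl_one]
    have := congrArg (PicF.pullCl (PicF.XTmap f j)) hC
    rwa [pullCl_mul, pullCl_mul, hj _ (hVm t), hj _ (hVm' t), _root_.mul_one, _root_.mul_one] at this

end Groth.Agent.AVPic
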